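import Mathlib
import Cfsg.Agent.H160.PD.Crit
import Cfsg.Agent.H524.SporSC
import Cfsg.Agent.Transfer.PGroupNormal
import Cfsg.Agent.Lib.Cores

/-!
# S4246: the sporadic rows, general tools (helper184)

* `row_of_sc` : `SC S` (an element of prime order `r` with a centralizer of order `r`), `|Out S| ≤ 2`, and the
  `2`-index of `C(g)` is larger than `|Out S|` for the elements `g` of odd prime order `⇒ Row S`;
* `EvT G` : for every `2`-central involution `z` there is a normal `2`-subgroup `Q` of `C(z)` such that only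
  `2`-elements of `C(z)` centralize `Q`;
* `EvT.lt` : then the `2`-index of `C(g)` is at least `4`, `g` of odd prime order.
-/

set_option autoImplicit false
set_option linter.unusedSectionVars false

namespace Cfsg.Agent.H184.PD

open Subgroup Cfsg.Agent.H160.PD Cfsg.Agent.H524.SporTool

universe u

/-! ### automorphisms of odd prime order -/

section inner

variable {S : Type*} [Group S]

theorem inner_of_out_le [Finite S] (ho : out S ≤ 2) {b : MulAut S} (hb : (orderOf b).Prime) (hb2 : orderOf b ≠ 2) :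
    ∃ g : S, MulAut.conj g = b := by
  have hN : (MulAut.conj : S →* MulAut S).range.Normal := conj_range_normal
  have h0 : out S ≠ 0 := out_ne_zero
  have hodd : Odd (orderOf b) := hb.odd_of_ne_two hb2
  have hsq : b ^ 2 ∈ (MulAut.conj : S →* MulAut S).range := by
    have h1 : (MulAut.conj : S →* MulAut S).range.index = 1 ∨ (MulAut.conj : S →* MulAut S).range.index = 2 := by
      unfold out at ho h0
      omega
    rcases h1 with h1 | h1
    · rw [Subgroup.index_eq_one.1 h1]
      exact mem_top _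
    · exact Subgroup.sq_mem_of_index_two h1 b
  obtain ⟨k, hk⟩ := hodd
  have h2 : b = (b ^ 2) ^ (k + 1) := by
    rw [← pow_mul, show 2 * (k + 1) = (2 * k + 1) + 1 by ring, ← hk, pow_succ, pow_orderOf_eq_one, one_mul]
  have h3 : b ∈ (MulAut.conj : S →* MulAut S).range := by
    rw [h2]
    exact pow_mem hsq _
  exact h3

theorem Fx_conj (g : S) : Fx (MulAut.conj g) = centralizer ({g} : Set S) := by
  ext s
  rw [mem_Fx, mem_centralizer_singleton_iff, MulAut.conj_apply, mul_inv_eq_iff_eq_mul]
  exact eq_comm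

end inner

/-! ### the elements of order `r`, `SC` -/

section sc

variable {S : Type*} [Group S] [Finite S]

theorem card_centralizer_conj (g x : S) :
    Nat.card (centralizer ({g * x * g⁻¹} : Set S)) = Nat.card (centralizer ({x} : Set S)) := by
  have h := card_centralizer_equiv (MulAut.conj g) x
  rwa [MulAut.conj_apply] at h

/-- an element of prime order `r` with a centralizer of order `r` generates a Sylow subgroup -/
theorem sylow_of_sc {x : S} (hx : (orderOf x).Prime) (hC : Nat.card (centralizer ({x} : Set S)) = orderOf x) :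
    v (orderOf x) S = 1 ∧ ∀ y : S, orderOf y = orderOf x → Nat.card (centralizer ({y} : Set S)) = orderOf x := by
  obtain ⟨r, hr⟩ : ∃ r, r = orderOf x := ⟨_, rfl⟩
  rw [← hr] at hx hC ⊢
  have : Fact r.Prime := ⟨hx⟩
  have hCx : zpowers x = centralizer ({x} : Set S) := by
    apply eq_of_le_of_card_ge
    · rw [zpowers_le]
      exact mem_centralizer_singleton_iff.2 rfl
    · rw [hC, Nat.card_zpowers, hr]
  have hZ : IsPGroup r (zpowers x) := by
    rw [IsPGroup.iff_card]
    exact ⟨1, by rw [Nat.card_zpowers, pow_one, ← hr]⟩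
  obtain ⟨P, hP⟩ := hZ.exists_le_sylow
  have hxP : x ∈ (P : Subgroup S) := hP (mem_zpowers x)
  have hx1 : x ≠ 1 := by
    rintro rfl
    rw [orderOf_one] at hr
    exact hx.one_lt.ne' hr
  have hPx : (P : Subgroup S) = zpowers x := by
    have hnt : Nontrivial (P : Subgroup S) := ⟨⟨⟨x, hxP⟩, 1, fun h => hx1 (congrArg Subtype.val h)⟩⟩
    have hc := P.2.center_nontrivial
    obtain ⟨⟨⟨z, hzP⟩, hzc⟩, hz1⟩ := exists_ne (1 : center (P : Subgroup S))
    have hz1' : z ≠ 1 := fun h => hz1 (Subtype.ext (Subtype.ext h))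
    have hzx : z ∈ zpowers x := by
      rw [hCx, mem_centralizer_singleton_iff]
      exact (congrArg Subtype.val (mem_center_iff.1 hzc ⟨x, hxP⟩)).symm
    have hxz : x ∈ zpowers z := by
      have h3 : zpowers z = zpowers x := by
        apply eq_of_le_of_card_ge
        · rw [zpowers_le]; exact hzx
        · rw [Nat.card_zpowers, Nat.card_zpowers, ← hr]
          have h2 : orderOf z ∣ r := by
            rw [hr]
            exact orderOf_dvd_of_mem_zpowers hzx
          rcases (Nat.dvd_prime hx).1 h2 with h3 | h3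
          · exact absurd (orderOf_eq_one_iff.1 h3) hz1'
          · exact h3.ge
      rw [h3]; exact mem_zpowers x
    apply le_antisymm _ hP
    intro p hp
    rw [hCx, mem_centralizer_singleton_iff]
    obtain ⟨i, rfl⟩ := hxz
    have h4 : p * z = z * p := congrArg Subtype.val (mem_center_iff.1 hzc ⟨p, hp⟩)
    exact ((show Commute p z from h4).zpow_right i).eq
  have hv : v r S = 1 := by
    have h1 := P.card_eq_multiplicity
    have h2 : Nat.card P = r := by
      rw [show Nat.card P = Nat.card (P : Subgroup S) from rfl, hPx, Nat.card_zpowers, hr]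
    rw [h2] at h1
    have h3 : r ^ v r S = r ^ 1 := by rw [pow_one]; exact h1.symm
    exact Nat.pow_right_injective hx.two_le h3
  refine ⟨hv, fun y hy => ?_⟩
  have hY : IsPGroup r (zpowers y) := by
    rw [IsPGroup.iff_card]
    exact ⟨1, by rw [Nat.card_zpowers, pow_one, hy]⟩
  obtain ⟨P', hP'⟩ := hY.exists_le_sylow
  obtain ⟨g, hg⟩ := MulAction.exists_smul_eq S P' P
  have hgy : g * y * g⁻¹ ∈ zpowers x := by
    rw [← hPx, ← hg, Sylow.coe_subgroup_smul]
    exact Subgroup.smul_mem_pointwise_smul y (MulAut.conj g) _ (hP' (mem_zpowers y))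
  have hyo : orderOf (g * y * g⁻¹) = r := by
    rw [← hy]
    exact MulEquiv.orderOf_eq (MulAut.conj g) y
  have h3 : zpowers (g * y * g⁻¹) = zpowers x := by
    apply eq_of_le_of_card_ge
    · rw [zpowers_le]; exact hgy
    · rw [Nat.card_zpowers, Nat.card_zpowers, hyo, hr]
  have h4 : centralizer ({g * y * g⁻¹} : Set S) = centralizer ({x} : Set S) := by
    rw [← centralizer_closure, ← centralizer_closure ({x} : Set S), ← zpowers_eq_closure, ← zpowers_eq_closure, h3]
  rw [← card_centralizer_conj g y, h4, hC]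

/-- **The rows for the groups with an isolated prime and `|Out| ≤ 2`.** -/
theorem row_of_sc' (hZ : center S = ⊥) (hsc : SC S) (ho : out S ≤ 2) (h4 : 4 ∣ Nat.card S)
    (h : ∀ g : S, (orderOf g).Prime → orderOf g ≠ 2 →
      v 2 (centralizer ({g} : Set S)) + (out S).factorization 2 < v 2 S) : Row S := by
  obtain ⟨x, hx, hC⟩ := hsc
  obtain ⟨hv, hall⟩ := sylow_of_sc hx hC
  obtain ⟨r, hr⟩ : ∃ r, r = orderOf x := ⟨_, rfl⟩
  rw [← hr] at hx hC hv hall
  have h2 : 2 ≤ v 2 S := by
    rw [show (4 : ℕ) = 2 ^ 2 by norm_num] at h4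
    exact (Nat.prime_two.pow_dvd_iff_le_factorization Nat.card_pos.ne').1 h4
  have hr2 : r ≠ 2 := by
    rintro rfl
    rw [hv] at h2
    omega
  have hv0 : ∀ y : S, orderOf y = r → v 2 (centralizer ({y} : Set S)) = 0 := by
    intro y hy
    apply v_eq_zero
    rw [hall y hy]
    intro hd
    exact hr2 ((Nat.prime_dvd_prime_iff_eq Nat.prime_two hx).1 hd).symm
  refine row_iso (r := r) (c := 0) hZ ⟨hx, hr2, ?_⟩ (fun y hy => (hv0 y hy).le) ?_ ?_
  · rw [hv, Nat.lt_one_iff]
    apply Nat.factorization_eq_zero_of_not_dvd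
    intro hd
    have h5 := Nat.le_of_dvd (Nat.pos_of_ne_zero out_ne_zero) hd
    have h6 := hx.two_le
    omega
  · intro b hb hb2 y hy hby
    obtain ⟨g, rfl⟩ := inner_of_out_le ho hb hb2
    rw [Fx_conj]
    have hgo : orderOf (MulAut.conj g : MulAut S) = orderOf g := orderOf_injective _ (conj_injective hZ) g
    have hg : g ∈ centralizer ({y} : Set S) := by
      rw [mem_centralizer_singleton_iff]
      rwa [MulAut.conj_apply, mul_inv_eq_iff_eq_mul] at hby
    have hgr : orderOf g = r := by
      have h5 : orderOf g ∣ r := by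
        rw [← hall y hy]
        exact (Subgroup.orderOf_mk g hg) ▸ orderOf_dvd_natCard (⟨g, hg⟩ : centralizer ({y} : Set S))
      rw [hgo] at hb
      exact (Nat.prime_dvd_prime_iff_eq hb hx).1 h5
    exact (hv0 g hgr).le
  · intro b hb hb2
    obtain ⟨g, rfl⟩ := inner_of_out_le ho hb hb2
    have hgo : orderOf (MulAut.conj g : MulAut S) = orderOf g := orderOf_injective _ (conj_injective hZ) g
    rw [hgo] at hb hb2
    rw [Fx_conj, add_zero]
    exact h g hb hb2

end sc

/-! ### the `2`-central involutions -/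

section evt

variable {G : Type*} [Group G]

/-- a normal `2`-subgroup `Q` of `C(z)` such that only `2`-elements of `C(z)` centralize `Q` -/
def At2 (z : G) : Prop :=
  ∃ Q : Subgroup G, IsPGroup 2 Q ∧ (∀ c, c * z = z * c → ∀ q ∈ Q, c * q * c⁻¹ ∈ Q) ∧
    ∀ g, g * z = z * g → (∀ q ∈ Q, g * q = q * g) → ∃ k : ℕ, g ^ 2 ^ k = 1

/-- `At2` for the `2`-central involutions -/
def EvT (G : Type*) [Group G] : Prop :=
  ∀ z : G, orderOf z = 2 → ¬ 2 ∣ (centralizer ({z} : Set G)).index → At2 z

theorem At2.congr {H : Type*} [Group H] (e : G ≃* H) {z : G} (h : At2 z) : At2 (e z) := by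
  obtain ⟨Q, h1, h2, h3⟩ := h
  refine ⟨Q.map e.toMonoidHom, h1.map _, ?_, ?_⟩
  · rintro c hc _ ⟨q, hq, rfl⟩
    refine ⟨e.symm c * q * (e.symm c)⁻¹, h2 _ ?_ q hq, by simp⟩
    apply e.injective
    simpa using hc
  · intro g hg hgq
    obtain ⟨k, hk⟩ := h3 (e.symm g) (by apply e.injective; simpa using hg) (by
      intro q hq
      apply e.injective
      simpa using hgq (e q) ⟨q, hq, rfl⟩)
    refine ⟨k, ?_⟩
    apply e.symm.injective
    rw [map_pow, hk, map_one]

theorem At2.conj {z : G} (h : At2 z) (g : G) : At2 (g * z * g⁻¹) := by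
  have := h.congr (MulAut.conj g)
  rwa [MulAut.conj_apply] at this

theorem At2.of_isConj {z t : G} (h : At2 z) (hc : IsConj z t) : At2 t := by
  obtain ⟨g, rfl⟩ := isConj_iff.1 hc
  exact h.conj g

theorem EvT.congr {H : Type*} [Group H] (e : G ≃* H) (h : EvT G) : EvT H := by
  intro z hz hi
  have h1 := h (e.symm z) (by rw [MulEquiv.orderOf_eq, hz]) (by rwa [← index_centralizer_map e, e.apply_symm_apply])
  have := h1.congr e
  rwa [e.apply_symm_apply] at this

/-- all `2`-central involutions are conjugate -/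
theorem EvT.of_conj {z : G} (h : At2 z)
    (hc : ∀ t : G, orderOf t = 2 → ¬ 2 ∣ (centralizer ({t} : Set G)).index → IsConj z t) : EvT G :=
  fun t ht hi => h.of_isConj (hc t ht hi)

theorem two_coset {A T : Subgroup G} (h : A.relIndex T = 1 ∨ A.relIndex T = 2) {a b : G} (ha : a ∈ T) (hb : b ∈ T)
    (ha' : a ∉ A) (hb' : b ∉ A) : a⁻¹ * b ∈ A := by
  rcases h with h | h
  · exact absurd (relIndex_eq_one.1 h ha) ha'
  · have h1 := (Subgroup.mul_mem_iff_of_index_two (H := A.subgroupOf T) h (a := ⟨a, ha⟩⁻¹) (b := ⟨b, hb⟩)).2 (by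
      rw [inv_mem_iff, mem_subgroupOf, mem_subgroupOf]
      exact ⟨fun h => absurd h ha', fun h => absurd h hb'⟩)
    exact h1

variable [Finite G]

/-- a `2`-subgroup normalized by a Sylow `2`-subgroup is contained in it -/
theorem le_of_norm {p : ℕ} [Fact p.Prime] (T : Sylow p G) {Q : Subgroup G} (hQ : IsPGroup p Q)
    (hn : ∀ t ∈ (T : Subgroup G), ∀ q ∈ Q, t * q * t⁻¹ ∈ Q) : Q ≤ T := by
  have h1 : (T : Subgroup G) ≤ normalizer (Q : Set G) := by
    intro t ht
    rw [mem_normalizer_iff]
    intro q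
    refine ⟨fun hq => hn t ht q hq, fun hq => ?_⟩
    have h2 := hn t⁻¹ (inv_mem ht) _ hq
    have h3 : t⁻¹ * (t * q * t⁻¹) * t⁻¹⁻¹ = q := by group
    rwa [h3] at h2
  have h2 : IsPGroup p ↥((T : Subgroup G) ⊔ Q) := T.2.to_sup_of_normal_right' hQ h1
  have h3 : (T : Subgroup G) ⊔ Q = T := T.3 h2 le_sup_left
  rw [← h3]
  exact le_sup_right

/-- **The `2`-index of `C(g)` is at least four.** -/
theorem EvT.lt (h : EvT G) (h4 : 2 ≤ v 2 G) {g : G} (hg : (orderOf g).Prime) (hg2 : orderOf g ≠ 2) :
    v 2 (centralizer ({g} : Set G)) + 1 < v 2 G := by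
  by_contra hcon
  push Not at hcon
  have : Fact (Nat.Prime 2) := ⟨Nat.prime_two⟩
  obtain ⟨P⟩ : Nonempty (Sylow 2 (centralizer ({g} : Set G))) := inferInstance
  set A : Subgroup G := (P : Subgroup (centralizer ({g} : Set G))).map (centralizer ({g} : Set G)).subtype with hA
  have hAC : A ≤ centralizer ({g} : Set G) := map_subtype_le _
  have hA2 : IsPGroup 2 A := P.2.map _
  have hAc : Nat.card A = 2 ^ v 2 (centralizer ({g} : Set G)) := by
    rw [hA, ← P.card_eq_multiplicity]
    exact (Nat.card_congr ((P : Subgroup (centralizer ({g} : Set G))).equivMapOfInjective _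
      (subtype_injective _)).toEquiv).symm
  obtain ⟨T, hAT⟩ := hA2.exists_le_sylow
  have hTc : Nat.card (T : Subgroup G) = 2 ^ v 2 G := T.card_eq_multiplicity
  have hle : v 2 (centralizer ({g} : Set G)) ≤ v 2 G :=
    (Nat.factorization_le_iff_dvd Nat.card_pos.ne' Nat.card_pos.ne').2 (card_subgroup_dvd_card _) 2
  have hri : A.relIndex T = 1 ∨ A.relIndex T = 2 := by
    have h1 : Nat.card A * A.relIndex T = Nat.card (T : Subgroup G) := by
      have := card_mul_index (A.subgroupOf (T : Subgroup G))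
      rw [← this, relIndex]
      congr 1
      exact (Nat.card_congr (Subgroup.subgroupOfEquivOfLe hAT).toEquiv).symm
    rw [hAc, hTc] at h1
    obtain ⟨d, hd⟩ : ∃ d, v 2 G = v 2 (centralizer ({g} : Set G)) + d := ⟨_, (Nat.add_sub_of_le hle).symm⟩
    rw [hd, pow_add] at h1
    have h2 := Nat.eq_of_mul_eq_mul_left (by positivity) h1
    have h3 : d = 0 ∨ d = 1 := by omega
    rcases h3 with rfl | rfl
    · left; simpa using h2
    · right; simpa using h2
  -- `A` is normal in `T` and not trivial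
  have hAn : (A.subgroupOf (T : Subgroup G)).Normal := by
    rcases hri with h1 | h1
    · rw [subgroupOf_eq_top.2 (relIndex_eq_one.1 h1)]
      infer_instance
    · exact Subgroup.normal_of_index_eq_two h1
  have hA1 : A.subgroupOf (T : Subgroup G) ≠ ⊥ := by
    intro h0
    have h1 : Nat.card A = 1 := by
      rw [← Nat.card_congr (Subgroup.subgroupOfEquivOfLe hAT).toEquiv, h0, Subgroup.card_bot]
    rw [hAc] at h1
    have h2 := (Nat.pow_eq_one.1 h1).resolve_left (by norm_num)
    omega
  obtain ⟨⟨z, hzT⟩, hzA, hzc, hz2⟩ :=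
    Transfer.PGroupNormal.exists_mem_inf_center_orderOf T.2 (A.subgroupOf (T : Subgroup G)) hA1
  rw [mem_subgroupOf] at hzA
  have hzA' : z ∈ A := hzA
  rw [Subgroup.orderOf_mk] at hz2
  have hzT' : ∀ t ∈ (T : Subgroup G), t * z = z * t := fun t ht =>
    congrArg Subtype.val (mem_center_iff.1 hzc ⟨t, ht⟩)
  have hTz : (T : Subgroup G) ≤ centralizer ({z} : Set G) := fun t ht =>
    mem_centralizer_singleton_iff.2 (hzT' t ht)
  have hidx : ¬ 2 ∣ (centralizer ({z} : Set G)).index := by
    intro hd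
    have h1 := T.not_dvd_index
    exact h1 (hd.trans (index_dvd_of_le hTz))
  obtain ⟨Q, hQ2, hQn, hQc⟩ := h z hz2 hidx
  have hgz : g * z = z * g := (mem_centralizer_singleton_iff.1 (hAC hzA')).symm
  have hQT : Q ≤ T := le_of_norm T hQ2 fun t ht q hq => hQn t (hzT' t ht) q hq
  have hAg : ∀ a ∈ A, g * a = a * g := fun a ha => (mem_centralizer_singleton_iff.1 (hAC ha)).symm
  have hginv : g⁻¹ * z = z * g⁻¹ := ((show Commute g z from hgz).inv_left).eq
  have key : ∀ q ∈ Q, g * q = q * g := by
    intro q hq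
    by_cases hqA : q ∈ A
    · exact hAg q hqA
    · have h1 : g * q * g⁻¹ ∈ Q := hQn g hgz q hq
      have h2 : g * q * g⁻¹ ∉ A := by
        intro h3
        apply hqA
        have h4 := hAg _ h3
        have h5 : g * q * g⁻¹ = q := by
          have h6 : g * q * g⁻¹ * g = g * (g * q * g⁻¹) := h4.symm
          rw [inv_mul_cancel_right] at h6
          exact (mul_left_cancel h6).symm
        rwa [h5] at h3
      have h3 : q⁻¹ * (g * q * g⁻¹) ∈ A := two_coset hri (hQT hq) (hQT h1) hqA h2
      obtain ⟨c, hc⟩ : ∃ c, c = q⁻¹ * (g * q * g⁻¹) := ⟨_, rfl⟩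
      rw [← hc] at h3
      have hgc : g * c = c * g := hAg c h3
      have h5 : g * q * g⁻¹ = q * c := by rw [hc]; group
      have h6 : ∀ n : ℕ, g ^ n * q * (g ^ n)⁻¹ = q * c ^ n := by
        intro n
        induction n with
        | zero => simp
        | succ n ih =>
          have e1 : g ^ (n + 1) * q * (g ^ (n + 1))⁻¹ = g * (g ^ n * q * (g ^ n)⁻¹) * g⁻¹ := by
            rw [pow_succ']; group
          rw [e1, ih]
          have e2 : g * (q * c ^ n) * g⁻¹ = (g * q * g⁻¹) * (g * c ^ n * g⁻¹) := by group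
          have e3 : g * c ^ n * g⁻¹ = c ^ n := by
            rw [mul_inv_eq_iff_eq_mul]
            exact ((show Commute g c from hgc).pow_right n).eq
          rw [e2, h5, e3, mul_assoc, ← pow_succ']
      have h7 : c ^ orderOf g = 1 := by
        have e1 := h6 (orderOf g)
        rw [pow_orderOf_eq_one, one_mul, inv_one, mul_one] at e1
        exact mul_left_cancel (by rw [mul_one, ← e1])
      obtain ⟨k, hk⟩ := hA2 ⟨c, h3⟩
      have hk' : c ^ 2 ^ k = 1 := congrArg Subtype.val hk
      have h8 : orderOf c ∣ 1 := by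
        have e1 : (orderOf g).Coprime (2 ^ k) :=
          Nat.Coprime.pow_right _ ((Nat.coprime_primes hg Nat.prime_two).2 hg2)
        rw [← e1.gcd_eq_one]
        exact Nat.dvd_gcd (orderOf_dvd_of_pow_eq_one h7) (orderOf_dvd_of_pow_eq_one hk')
      have h9 : c = 1 := orderOf_eq_one_iff.1 (Nat.dvd_one.1 h8)
      rw [h9, mul_one, mul_inv_eq_iff_eq_mul] at h5
      exact h5
  obtain ⟨k, hk⟩ := hQc g hgz key
  have h9 : orderOf g ∣ 2 ^ k := orderOf_dvd_of_pow_eq_one hk
  exact hg2 ((Nat.prime_dvd_prime_iff_eq hg Nat.prime_two).1 (hg.dvd_of_dvd_pow h9))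

/-- **The rows of the sporadic groups of characteristic `2`.** -/
theorem row_of_evT (hZ : center G = ⊥) (hsc : SC G) (ho : out G ≤ 2) (h4 : 4 ∣ Nat.card G) (h : EvT G) : Row G := by
  refine row_of_sc' hZ hsc ho h4 fun g hg hg2 => ?_
  have h2 : 2 ≤ v 2 G := by
    rw [show (4 : ℕ) = 2 ^ 2 by norm_num] at h4
    exact (Nat.prime_two.pow_dvd_iff_le_factorization Nat.card_pos.ne').1 h4
  have h5 := h.lt h2 hg hg2
  have h6 : (out G).factorization 2 ≤ 1 := by
    have h7 : out G = 1 ∨ out G = 2 := by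
      have := out_ne_zero (S := G)
      omega
    rcases h7 with h7 | h7
    · rw [h7]; simp
    · rw [h7, Nat.prime_two.factorization]; simp
  omega

/-! ### groups of characteristic two type -/

theorem EvT.of_charTwo (h : IsCharacteristicTwoType G) : EvT G := by
  intro z hz _
  have hz1 : z ≠ 1 := by
    rintro rfl
    rw [orderOf_one] at hz
    omega
  have hp : IsPGroup 2 (zpowers z) := by
    rw [IsPGroup.iff_card]
    exact ⟨1, by rw [Nat.card_zpowers, pow_one, hz]⟩
  have h1 := h.2 (zpowers z) hp (by rwa [Ne, zpowers_eq_bot])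
  have hN : ∀ c : G, c * z = z * c → c ∈ normalizer ((zpowers z : Subgroup G) : Set G) := by
    intro c hc
    apply centralizer_le_normalizer
    rw [mem_centralizer_iff]
    rintro _ ⟨k, rfl⟩
    exact ((show Commute c z from hc).zpow_right k).eq.symm
  set N := normalizer ((zpowers z : Subgroup G) : Set G) with hNdef
  have : Fact (Nat.Prime 2) := ⟨Nat.prime_two⟩
  have hQ : IsPGroup 2 (pCore 2 N) := Lib.Cores.pCore_isPGroup 2
  have hQn : (pCore 2 N).Normal := Lib.Cores.pCore_normal 2
  refine ⟨(pCore 2 N).map N.subtype, hQ.map _, ?_, ?_⟩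
  · rintro c hc _ ⟨q, hq, rfl⟩
    exact ⟨⟨c, hN c hc⟩ * q * ⟨c, hN c hc⟩⁻¹, hQn.conj_mem q hq _, rfl⟩
  · intro g hg hgq
    have h2 : (⟨g, hN g hg⟩ : N) ∈ pCore 2 N := by
      apply h1
      rw [mem_centralizer_iff]
      intro q hq
      exact Subtype.ext (hgq q ⟨q, hq, rfl⟩).symm
    obtain ⟨k, hk⟩ := hQ ⟨_, h2⟩
    exact ⟨k, congrArg (fun x : pCore 2 N => ((x : N) : G)) hk⟩

end evt

end Cfsg.Agent.H184.PD
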