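import Mathlib
import Cfsg.Agent.H184.PD.Base
import Cfsg.Agent.Co2Type.Quad

/-!
# S4246: `EvT` from a large extraspecial subgroup, from the classes of involutions (helper184)
-/

set_option autoImplicit false
set_option linter.unusedSectionVars false

namespace Cfsg.Agent.H184.PD

open Subgroup Cfsg.Agent.H160.PD Cfsg.Agent.H524.SporTool

variable {G : Type*} [Group G] [Finite G]

/-- a subgroup of odd index contains a Sylow `2`-subgroup -/
theorem exists_sylow_le {p : ℕ} [hp : Fact p.Prime] {C : Subgroup G} (hi : ¬ p ∣ C.index) :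
    ∃ T : Sylow p G, (T : Subgroup G) ≤ C := by
  obtain ⟨P⟩ : Nonempty (Sylow p C) := inferInstance
  have hA2 : IsPGroup p ↥((P : Subgroup C).map C.subtype) := P.2.map _
  obtain ⟨T, hT⟩ := hA2.exists_le_sylow
  refine ⟨T, ?_⟩
  have h1 : v p C = v p G := by
    have h2 := Subgroup.card_mul_index C
    have h3 : C.index ≠ 0 := index_ne_zero_of_finite
    have h4 := congrArg (fun n => n.factorization p) h2
    simp only [Nat.factorization_mul Nat.card_pos.ne' h3, Finsupp.add_apply] at h4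
    rw [Nat.factorization_eq_zero_of_not_dvd hi, add_zero] at h4
    exact h4
  have h5 : Nat.card ↥((P : Subgroup C).map C.subtype) = p ^ v p G := by
    rw [← h1, ← P.card_eq_multiplicity]
    exact (Nat.card_congr ((P : Subgroup C).equivMapOfInjective _ (subtype_injective _)).toEquiv).symm
  have h6 : Nat.card (T : Subgroup G) = p ^ v p G := T.card_eq_multiplicity
  have h7 : (P : Subgroup C).map C.subtype = (T : Subgroup G) := eq_of_le_of_card_ge hT (by rw [h5, h6])
  rw [← h7]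
  exact map_subtype_le _

/-- a `2`-central involution is conjugate to a central element of a given Sylow subgroup -/
theorem conj_central {p : ℕ} [hp : Fact p.Prime] (T : Sylow p G) {t : G}
    (hi : ¬ p ∣ (centralizer ({t} : Set G)).index) : ∃ g : G, ∀ x ∈ (T : Subgroup G), x * (g * t * g⁻¹) = g * t * g⁻¹ * x := by
  obtain ⟨T', hT'⟩ := exists_sylow_le hi
  obtain ⟨g, hg⟩ := MulAction.exists_smul_eq G T' T
  refine ⟨g, fun x hx => ?_⟩
  have hx' : g⁻¹ * x * g ∈ (T' : Subgroup G) := by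
    rw [← hg, Sylow.coe_subgroup_smul] at hx
    have := Subgroup.mem_pointwise_smul_iff_inv_smul_mem.1 hx
    rw [← map_inv, MulAut.smul_def, MulAut.conj_apply, inv_inv] at this
    exact this
  have h1 := mem_centralizer_singleton_iff.1 (hT' hx')
  calc x * (g * t * g⁻¹) = g * (g⁻¹ * x * g * t) * g⁻¹ := by group
    _ = g * (t * (g⁻¹ * x * g)) * g⁻¹ := by rw [h1]
    _ = g * t * g⁻¹ * x := by group

/-- **From a normal `2`-subgroup `Q` of `C(z)` with `C(Q) ∩ C(z)` small.** -/
theorem EvT.of_cent {Q : Subgroup G} {z : G} (hz : orderOf z = 2) (hi : ¬ 2 ∣ (centralizer ({z} : Set G)).index)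
    (hQ : IsPGroup 2 Q) (hzQ : z ∈ Q) (hn : ∀ c, c * z = z * c → ∀ q ∈ Q, c * q * c⁻¹ ∈ Q)
    (hc : ∀ c, c * z = z * c → (∀ q ∈ Q, c * q = q * c) → c = 1 ∨ c = z ∨ c * c = z) : EvT G := by
  have : Fact (Nat.Prime 2) := ⟨Nat.prime_two⟩
  have hz2 : z * z = 1 := by rw [← pow_two, ← hz, pow_orderOf_eq_one]
  have hz1 : z ≠ 1 := by
    rintro rfl
    rw [orderOf_one] at hz
    omega
  have h4 : ∀ c : G, c = 1 ∨ c = z ∨ c * c = z → c ^ 2 ^ 2 = 1 := by
    intro x hx
    have h1 : x ^ 2 ^ 2 = (x * x) * (x * x) := by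
      rw [show 2 ^ 2 = 4 by norm_num]
      simp only [pow_succ, pow_zero, one_mul, mul_assoc]
    rcases hx with h | h | h
    · rw [h, one_pow]
    · rw [h1, h, hz2, one_mul]
    · rw [h1, h, hz2]
  have hat : At2 z := ⟨Q, hQ, hn, fun g hg hgq => ⟨2, h4 g (hc g hg hgq)⟩⟩
  refine EvT.of_conj hat fun t ht hit => ?_
  obtain ⟨T, hT⟩ := exists_sylow_le hi
  have hQT : Q ≤ T := le_of_norm T hQ fun s hs q hq => hn s (mem_centralizer_singleton_iff.1 (hT hs)) q hq
  obtain ⟨g, hg⟩ := conj_central T hit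
  have htt : t * t = 1 := by rw [← pow_two, ← ht, pow_orderOf_eq_one]
  rcases hc (g * t * g⁻¹) (hg z (hQT hzQ)).symm fun x hx => (hg x (hQT hx)).symm with h1 | h1 | h1
  · exfalso
    have h2 : t = 1 := by
      have h3 : t = g⁻¹ * (g * t * g⁻¹) * g := by group
      rw [h3, h1]; group
    rw [h2, orderOf_one] at ht
    omega
  · exact (isConj_iff.2 ⟨g, h1⟩).symm
  · exfalso
    apply hz1
    rw [← h1]
    calc g * t * g⁻¹ * (g * t * g⁻¹) = g * (t * t) * g⁻¹ := by group
      _ = 1 := by rw [htt]; group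

/-- a Sylow subgroup centralizing `z` -/
theorem not_dvd_of_sylow {p : ℕ} [hp : Fact p.Prime] {z : G} (T : Sylow p G) (h : ∀ s ∈ T, s * z = z * s) :
    ¬ p ∣ (centralizer ({z} : Set G)).index := by
  intro hd
  have h1 : (T : Subgroup G) ≤ centralizer ({z} : Set G) := fun s hs => mem_centralizer_singleton_iff.2 (h s hs)
  exact T.not_dvd_index (hd.trans (index_dvd_of_le h1))

/-- **From a large extraspecial subgroup.** -/
theorem EvT.of_large {Q : Subgroup G} {z : G} (h : Co2Type.Quad.Large Q z)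
    (hi : ¬ 2 ∣ (centralizer ({z} : Set G)).index) : EvT G := by
  have : Fact (Nat.Prime 2) := ⟨Nat.prime_two⟩
  have hQ4 : ∀ x ∈ Q, x ^ 2 ^ 2 = 1 := by
    intro x hx
    have h1 : x ^ 2 ^ 2 = (x * x) * (x * x) := by
      rw [show 2 ^ 2 = 4 by norm_num]
      simp only [pow_succ, pow_zero, one_mul, mul_assoc]
    rcases h.sq x hx with h2 | h2
    · rw [h1, h2, one_mul]
    · rw [h1, h2, h.z_sq]
  have hQ : IsPGroup 2 Q := fun x => ⟨2, Subtype.ext (hQ4 x x.2)⟩
  have hz2 : orderOf z = 2 := orderOf_eq_prime (by rw [pow_two, h.z_sq]) h.z_ne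
  have hat : At2 z := ⟨Q, hQ, h.conj_mem, fun g hg hgq => ⟨2, hQ4 g (h.self g hg hgq)⟩⟩
  refine EvT.of_conj hat fun t ht hit => ?_
  obtain ⟨T, hT⟩ := exists_sylow_le hi
  have hQT : Q ≤ T := le_of_norm T hQ fun s hs q hq =>
    h.conj_mem s (mem_centralizer_singleton_iff.1 (hT hs)) q hq
  obtain ⟨g, hg⟩ := conj_central T hit
  have hc : g * t * g⁻¹ * z = z * (g * t * g⁻¹) := (hg z (hQT h.z_mem)).symm
  have hm : g * t * g⁻¹ ∈ Q := h.self _ hc fun x hx => (hg x (hQT hx)).symm
  have h1 := h.cent _ hm fun x hx => (hg x (hQT hx)).symm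
  rcases h1 with h1 | h1
  · exfalso
    have h2 : t = 1 := by
      have h3 : t = g⁻¹ * (g * t * g⁻¹) * g := by group
      rw [h3, h1]; group
    rw [h2, orderOf_one] at ht
    omega
  · exact (isConj_iff.2 ⟨g, h1⟩).symm

/-- the `2`-part of the index from the orders -/
theorem not_dvd_index_of {p : ℕ} {C : Subgroup G} (a b : ℕ) (hC : Nat.card C = a) (hG : Nat.card G = a * b)
    (hb : ¬ p ∣ b) : ¬ p ∣ C.index := by
  have h1 := Subgroup.card_mul_index C
  rw [hC, hG] at h1
  have h2 : 0 < a := by rw [← hC]; exact Nat.card_pos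
  rwa [Nat.eq_of_mul_eq_mul_left h2 h1]

/-- the involutions with centralizers whose order has not the full `2`-part -/
theorem dvd_index_of {p a N : ℕ} (hp : p.Prime) {C : Subgroup G} (ha : p ^ a ∣ Nat.card G) (hC : Nat.card C ∣ N)
    (hN : ¬ p ^ a ∣ N) : p ∣ C.index := by
  by_contra hcon
  rw [← Subgroup.card_mul_index C] at ha
  exact hN ((Nat.Coprime.dvd_of_dvd_mul_right (Nat.Coprime.pow_left _ ((Nat.Prime.coprime_iff_not_dvd hp).2 hcon))
    ha).trans hC)

end Cfsg.Agent.H184.PD
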