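import Mathlib
import Cfsg.Agent.H184.PD.Base
import Cfsg.Agent.H524.SporM
import Cfsg.Agent.H524.SporSCC
import Cfsg.Agent.OddHalf.Small.Plug
import Cfsg.Agent.OddHalf.Small.Mathieu
import Cfsg.Agent.OddHalf.Small.M24Char
import Cfsg.Agent.OddHalf.Small.J3
import Cfsg.Agent.S2060
import Cfsg.Agent.S2062
import Cfsg.Agent.S2063
import Cfsg.Agent.S2064
import Cfsg.Agent.S2067

/-!
# S4246: the rows `M₁₁`, `M₂₂`, `M₂₃`, `M₂₄`, `J₃` (helper184)
-/

set_option autoImplicit false
set_option linter.unusedSectionVars false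

namespace Cfsg.Agent.H184.PD

open Subgroup Cfsg Cfsg.Agent.H160.PD Cfsg.Agent.H524.SporTool

universe u

section gen

variable {S : Type*} [Group S]

theorem SC.of_sylow' [Finite S] {r : ℕ} [hr : Fact r.Prime] (hd : r ∣ Nat.card S) (hr2 : ¬ r ^ 2 ∣ Nat.card S)
    (h : ∀ P : Sylow r S, centralizer (P : Set S) = (P : Subgroup S)) : SC S := by
  refine SC.of_zpowers hr.out hd fun P hP => ?_
  have hPp : IsPGroup r P := by
    rw [IsPGroup.iff_card]
    exact ⟨1, by rw [hP, pow_one]⟩
  obtain ⟨T, hT⟩ := hPp.exists_le_sylow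
  have hTc : Nat.card (T : Subgroup S) = r := by
    obtain ⟨k, hk⟩ := IsPGroup.iff_card.1 T.2
    have h2 : k < 2 := by
      by_contra hc
      push Not at hc
      exact hr2 ((pow_dvd_pow r hc).trans (hk ▸ card_subgroup_dvd_card _))
    have h3 : Nat.card P ≤ Nat.card (T : Subgroup S) := card_le_of_le hT
    rw [hk, hP] at h3
    have h4 : k = 1 := by
      interval_cases k
      · have := hr.out.two_le
        rw [pow_zero] at h3
        omega
      · rfl
    rw [hk, h4, pow_one]
  have hTP : P = (T : Subgroup S) := eq_of_le_of_card_ge hT (by rw [hP, hTc])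
  have h5 : centralizer ((T : Subgroup S) : Set S) = (T : Subgroup S) := h T
  rw [hTP, h5, hTc]

theorem out_congr {X Y : Type*} [Group X] [Group Y] (e : X ≃* Y) : out X = out Y := by
  have h1 : (MulAut.conj : Y →* MulAut Y).range =
      (MulAut.conj : X →* MulAut X).range.map (MulAut.congr e).toMonoidHom := by
    ext f
    constructor
    · rintro ⟨y, rfl⟩
      refine ⟨MulAut.conj (e.symm y), ⟨_, rfl⟩, ?_⟩
      ext z
      show e (e.symm y * e.symm z * (e.symm y)⁻¹) = y * z * y⁻¹
      simp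
    · rintro ⟨_, ⟨x, rfl⟩, rfl⟩
      refine ⟨e x, ?_⟩
      ext z
      show e x * z * (e x)⁻¹ = e (x * e.symm z * x⁻¹)
      simp
  unfold out
  rw [h1]
  exact (Subgroup.index_map_of_bijective (f := (MulAut.congr e).toMonoidHom) (MulAut.congr e).bijective _).symm

theorem out_of {X Y : Type*} [Group X] [Group Y] (e : X ≃* Y) {n : ℕ} (h : Nat.card (Out Y) = n) : out X = n := by
  rw [out_congr e]
  exact h

end gen

theorem center_bot' {K : Type*} [Group K] [Finite K] [IsSimpleGroup K] (h4 : 4 ∣ Nat.card K) : center K = ⊥ := by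
  rcases (inferInstance : (center K).Normal).eq_bot_or_eq_top with h | h
  · exact h
  · exfalso
    have hc : ∀ a b : K, a * b = b * a := fun a b => (mem_center_iff.1 (h ▸ mem_top a : a ∈ center K) b).symm
    have : Fact (Nat.Prime 2) := ⟨Nat.prime_two⟩
    obtain ⟨x, hx⟩ := exists_prime_orderOf_dvd_card' (G := K) 2 (dvd_trans (by norm_num) h4)
    have hn : (zpowers x).Normal := ⟨fun n hn g => by rw [hc g n, mul_inv_cancel_right]; exact hn⟩
    rcases hn.eq_bot_or_eq_top with h1 | h1
    · rw [zpowers_eq_bot] at h1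
      rw [h1, orderOf_one] at hx
      omega
    · have h2 : Nat.card K = 2 := by
        rw [← Subgroup.card_top, ← h1, Nat.card_zpowers, hx]
      rw [h2] at h4
      omega

theorem row_of_data {K : Type*} [Group K] [Finite K] [IsSimpleGroup K] (hsc : SC K) (ho : out K ≤ 2)
    (h4 : 4 ∣ Nat.card K) (h : EvT K) : Row K :=
  row_of_evT (center_bot' h4) hsc ho h4 h

theorem sc_m11 {G : Type*} [Group G] [Finite G] [IsSimpleGroup G] (h : Spor.IsoM11 G) : SC G := by
  have hc := NotCT.Orders.m11 h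
  exact SC.of_card (r := 11) (by norm_num) (by rw [hc]; norm_num) fun x hx =>
    SporadicA.M11Sylow.card_centralizer_eleven (⟨inferInstance, hc⟩ : IsM11 G) hx

theorem sc_m12 {G : Type*} [Group G] [Finite G] [IsSimpleGroup G] (h : Spor.IsoM12 G) : SC G := by
  have hc := NotCT.Orders.m12 h
  have : Fact (Nat.Prime 11) := ⟨by norm_num⟩
  exact SC.of_sylow' (r := 11) (by rw [hc]; norm_num) (by rw [hc]; norm_num)
    (fun P => MTwelve.SylowEleven.centralizer_sylow11 hc P)

theorem sc_m22 {G : Type*} [Group G] [Finite G] [IsSimpleGroup G] (h : Spor.IsoM22 G) : SC G := by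
  have hc := NotCT.Orders.m22 h
  have : Fact (Nat.Prime 11) := ⟨by norm_num⟩
  exact SC.of_sylow' (r := 11) (by rw [hc]; norm_num) (by rw [hc]; norm_num)
    (fun P => (M22.Sylow11.sylow_eleven hc P).1)

theorem sc_m23 {G : Type*} [Group G] [Finite G] [IsSimpleGroup G] (h : Spor.IsoM23 G) : SC G := by
  have hc := NotCT.Orders.m23 h
  have : Fact (Nat.Prime 23) := ⟨by norm_num⟩
  exact SC.of_sylow' (r := 23) (by rw [hc]; norm_num) (by rw [hc]; norm_num)
    (fun P => M23.Sylow23.centralizer_eq hc P)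

theorem sc_m24 {G : Type*} [Group G] [Finite G] [IsSimpleGroup G] (h : Spor.IsoM24 G) : SC G := by
  have hc := NotCT.Orders.m24 h
  have : Fact (Nat.Prime 23) := ⟨by norm_num⟩
  exact SC.of_sylow' (r := 23) (by rw [hc]; norm_num) (by rw [hc]; norm_num)
    (fun P => SporadicA.M24.Sylow23.centralizer_eq hc P)

theorem row_m11 (K : Type u) [Group K] [Finite K] [IsSimpleGroup K] (h : Spor.IsoM11 K) : Row K := by
  refine row_of_data (sc_m11 h) ?_ (by rw [NotCT.Orders.m11 h]; norm_num)
    (EvT.of_charTwo (OddHalf.Small.M11.charTwo_of_iso h))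
  obtain ⟨e⟩ := h
  rw [out_of e S2060.result]
  norm_num

theorem row_m22 (K : Type u) [Group K] [Finite K] [IsSimpleGroup K] (h : Spor.IsoM22 K) : Row K := by
  refine row_of_data (sc_m22 h) ?_ (by rw [NotCT.Orders.m22 h]; norm_num)
    (EvT.of_charTwo (OddHalf.Small.Mathieu.m22 h))
  obtain ⟨e⟩ := h
  rw [out_of e S2062.result]

theorem row_m23 (K : Type u) [Group K] [Finite K] [IsSimpleGroup K] (h : Spor.IsoM23 K) : Row K := by
  refine row_of_data (sc_m23 h) ?_ (by rw [NotCT.Orders.m23 h]; norm_num)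
    (EvT.of_charTwo (OddHalf.Small.Mathieu.m23 h))
  obtain ⟨e⟩ := h
  rw [out_of e S2063.result]
  norm_num

theorem row_m24 (K : Type u) [Group K] [Finite K] [IsSimpleGroup K] (h : Spor.IsoM24 K) : Row K := by
  refine row_of_data (sc_m24 h) ?_ (by rw [NotCT.Orders.m24 h]; norm_num)
    (EvT.of_charTwo (OddHalf.Small.M24Char.m24 h))
  obtain ⟨e⟩ := h
  rw [out_of e S2064.result]
  norm_num

theorem row_j3 (K : Type u) [Group K] [Finite K] [IsSimpleGroup K] (h : Spor.IsoJ3 K) : Row K := by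
  refine row_of_data (sc_j3 h) ?_ (by rw [NotCT.Orders.j3 h]; norm_num)
    (EvT.of_charTwo (OddHalf.Small.J3.j3 K h))
  obtain ⟨F, i1, i2, ω, hF, hω, ⟨e⟩⟩ := h
  rw [out_of e (S2067.result hF ω hω)]

end Cfsg.Agent.H184.PD
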