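import Mathlib
import Cfsg.Agent.H184.PD.RowsA
import Cfsg.Agent.H184.PD.Large
import Cfsg.Agent.H524.SporSCB
import Cfsg.Agent.H524.RegSpor
import Cfsg.Agent.H330.MTw
import Cfsg.Agent.CTwoTab.JTwo
import Cfsg.Agent.CTwoTab.HS
import Cfsg.Agent.CTwoTab.He
import Cfsg.Agent.S2061
import Cfsg.Agent.S2066
import Cfsg.Agent.S2072
import Cfsg.Agent.S2075

/-!
# S4246: the rows `M₁₂`, `J₂`, `HS`, `He` (helper184)
-/

set_option autoImplicit false
set_option linter.unusedSectionVars false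

namespace Cfsg.Agent.H184.PD

open Subgroup Cfsg Cfsg.Agent.H160.PD Cfsg.Agent.H524.SporTool

universe u

theorem evT_m12 {K : Type*} [Group K] [Finite K] (h : Spor.IsoM12 K) : EvT K := by
  have hc := NotCT.Orders.m12 h
  obtain ⟨e⟩ := h
  have : Finite Spor.M12 := Finite.of_equiv K e.toEquiv
  refine EvT.congr e.symm (EvT.of_large Cfsg.Agent.H330.MTw.large ?_)
  refine not_dvd_index_of 192 495 Cfsg.Agent.CoThreeStd.MTwelve.card_cent_v ?_ (by norm_num)
  rw [← Nat.card_congr e.toEquiv, hc]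

theorem row_m12 (K : Type u) [Group K] [Finite K] [IsSimpleGroup K] (h : Spor.IsoM12 K) : Row K := by
  refine row_of_data (sc_m12 h) ?_ (by rw [NotCT.Orders.m12 h]; norm_num) (evT_m12 h)
  obtain ⟨e⟩ := h
  rw [out_of e S2061.result]

theorem evT_j2 {K : Type*} [Group K] [Finite K] (h : Spor.IsoJ2 K) : EvT K := by
  obtain ⟨t, u, Q, v, ρ, D⟩ := Cfsg.Agent.KFacts.J2.Facts.exists_dat_of h
  have hL := Cfsg.Agent.KFacts.J3Sheet.large D.cardC D.M
  refine EvT.of_large hL (not_dvd_index_of 1920 315 D.cardC ?_ (by norm_num))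
  rw [D.card]

theorem row_j2 (K : Type u) [Group K] [Finite K] [IsSimpleGroup K] (h : Spor.IsoJ2 K) : Row K := by
  refine row_of_data (sc_j2 h) ?_ (by rw [NotCT.Orders.j2 h]; norm_num) (evT_j2 h)
  obtain ⟨e⟩ := h
  rw [out_of e S2066.result]

theorem evT_hs {K : Type*} [Group K] [Finite K] (h : Spor.IsoHS K) : EvT K := by
  have hp2 : Fact (Nat.Prime 2) := ⟨Nat.prime_two⟩
  obtain ⟨D⟩ := Cfsg.Agent.KFacts.HS.exists_mod h
  obtain ⟨T, hT⟩ := Cfsg.Agent.KFacts.HS.DFour.cen D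
  exact EvT.of_cent (orderOf_eq_prime (by rw [pow_two, Cfsg.Agent.KFacts.HS.DFour.zA_sq])
    (Cfsg.Agent.KFacts.HS.DFour.zA_ne D)) (not_dvd_of_sylow T hT) (Cfsg.Agent.KFacts.HS.DFour.RL_pGroup D)
    (Cfsg.Agent.KFacts.HS.DFour.zA_mem_RL D) (fun c hc q hq => Cfsg.Agent.KFacts.HS.DFour.RL_norm D hc hq)
    (fun c hc h => Cfsg.Agent.KFacts.HS.DFour.cent_RL D hc h)

theorem row_hs (K : Type u) [Group K] [Finite K] [IsSimpleGroup K] (h : Spor.IsoHS K) : Row K := by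
  refine row_of_data (H524.RegSpor.sc_hs h) ?_ (by rw [NotCT.Orders.hs h]; norm_num) (evT_hs h)
  obtain ⟨e⟩ := h
  rw [out_of e S2072.result]

theorem evT_he {K : Type*} [Group K] [Finite K] (h : Spor.IsoHe K) : EvT K := by
  obtain ⟨e⟩ := h
  have hfin := Cfsg.Agent.KFacts.He.Hyp.finHe
  obtain ⟨R, E, E', S⟩ := Cfsg.Agent.CTwoTab.He.sheet_z
  refine EvT.congr e.symm (EvT.of_cent (Q := R) (z := Cfsg.Agent.CTwoTab.He.z) ?_ ?_ ?_ ?_ ?_ ?_)
  · exact orderOf_eq_prime (by rw [pow_two, S.zz]) S.z1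
  · refine not_dvd_index_of 21504 187425 Cfsg.Agent.KFacts.He.Classes.card_centralizer ?_ (by norm_num)
    rw [Cfsg.Agent.KFacts.He.Classes.card_he]
  · rw [IsPGroup.iff_card]
    exact ⟨7, by rw [S.cardR]; norm_num⟩
  · exact S.h1.ER S.h1.zE
  · intro c hc r hr
    exact S.norR c (Cfsg.Agent.CTwoTab.He.mem_range (mem_centralizer_singleton_iff.2 hc)) r hr
  · intro c hc hcr
    rcases S.cR c (Cfsg.Agent.CTwoTab.He.mem_range (mem_centralizer_singleton_iff.2 hc)) hcr with h | h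
    · exact Or.inl h
    · exact Or.inr (Or.inl h)

theorem row_he (K : Type u) [Group K] [Finite K] [IsSimpleGroup K] (h : Spor.IsoHe K) : Row K := by
  refine row_of_data (sc_he h) ?_ (by rw [NotCT.Orders.he h]; norm_num) (evT_he h)
  obtain ⟨e⟩ := h
  rw [out_of e S2075.result]

end Cfsg.Agent.H184.PD
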