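import Mathlib
import Cfsg.Agent.H184.PD.RowsA
import Cfsg.Agent.H184.PD.Large
import Cfsg.Agent.H524.SporJ1
import Cfsg.Agent.H524.RegSpor
import Cfsg.Agent.TypeM.FactsMcL
import Cfsg.Agent.S2065
import Cfsg.Agent.S2073

/-!
# S4246: the rows `J₁`, `McL` (helper184)
-/

set_option autoImplicit false
set_option linter.unusedSectionVars false

namespace Cfsg.Agent.H184.PD

open Subgroup Cfsg Cfsg.Agent.H160.PD Cfsg.Agent.H524.SporTool

universe u

section gen

variable {G : Type*} [Group G] [Finite G]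

/-- the `2`-part of a subgroup is the `2`-part of the centralizer in it of one of its involutions -/
theorem exists_inv_central {C : Subgroup G} (h : 2 ∣ Nat.card C) :
    ∃ z ∈ C, orderOf z = 2 ∧ v 2 ↥(C ⊓ centralizer ({z} : Set G)) = v 2 C := by
  have hp2 : Fact (Nat.Prime 2) := ⟨Nat.prime_two⟩
  obtain ⟨P⟩ : Nonempty (Sylow 2 C) := inferInstance
  have hP : Nat.card P = 2 ^ v 2 C := P.card_eq_multiplicity
  have hv : 0 < v 2 C := (v_pos Nat.prime_two).2 h
  have hne : (⊤ : Subgroup P) ≠ ⊥ := by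
    intro h0
    have h1 : Nat.card P = 1 := by rw [← Subgroup.card_top, h0, Subgroup.card_bot]
    rw [hP] at h1
    have := (Nat.pow_eq_one.1 h1).resolve_left (by norm_num)
    omega
  obtain ⟨⟨z, hzP⟩, -, hzc, hz2⟩ := Transfer.PGroupNormal.exists_mem_inf_center_orderOf P.2 ⊤ hne
  rw [Subgroup.orderOf_mk] at hz2
  refine ⟨z, z.2, by rw [Subgroup.orderOf_coe, hz2], ?_⟩
  apply le_antisymm (v_mono inf_le_left 2)
  have h1 : (P : Subgroup C).map C.subtype ≤ C ⊓ centralizer ({(z : G)} : Set G) := by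
    rintro _ ⟨x, hx, rfl⟩
    refine ⟨x.2, mem_centralizer_singleton_iff.2 ?_⟩
    have h2 := mem_center_iff.1 hzc ⟨x, hx⟩
    exact congrArg (fun y : P => (((y : C)) : G)) h2
  have h2 := card_dvd_of_le h1
  have h3 : Nat.card ↥((P : Subgroup C).map C.subtype) = 2 ^ v 2 C := by
    rw [← hP]
    exact (Nat.card_congr ((P : Subgroup C).equivMapOfInjective _ (subtype_injective _)).toEquiv).symm
  rw [h3] at h2
  exact (Nat.prime_two.pow_dvd_iff_le_factorization Nat.card_pos.ne').1 h2

open Cfsg.Agent.TypeM.Two in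
/-- the `2`-part of `C(g) ∩ C(t)`, `C(t) = 2.A_n` -/
theorem v_le_of_mt {n : ℕ} (L : MT n G) {g : G} (hg : g * L.t = L.t * g) :
    v 2 ↥(centralizer ({g} : Set G) ⊓ centralizer ({L.t} : Set G)) ≤
      v 2 ↥(centralizer ({L.K.π ⟨g, L.mem_iff.2 hg⟩} : Set (Equiv.Perm (Fin n)))) + 1 := by
  set D := centralizer ({g} : Set G) ⊓ centralizer ({L.t} : Set G) with hD
  let ψ : ↥D →* Equiv.Perm (Fin n) := L.K.π.comp (Subgroup.inclusion (inf_le_right : D ≤ _))
  have hr : ψ.range ≤ centralizer ({L.K.π ⟨g, L.mem_iff.2 hg⟩} : Set (Equiv.Perm (Fin n))) := by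
    rintro _ ⟨d, rfl⟩
    rw [mem_centralizer_singleton_iff]
    show L.K.π _ * L.K.π _ = L.K.π _ * L.K.π _
    rw [← map_mul, ← map_mul]
    congr 1
    exact Subtype.ext (mem_centralizer_singleton_iff.1 d.2.1)
  have hk : Nat.card ψ.ker ≤ 2 := by
    have h1 : Nat.card ψ.ker ≤ Nat.card (zpowers L.t) := by
      apply Nat.card_le_card_of_injective (fun x : ψ.ker => (⟨(x : D), by
        rcases (L.K.ker _).1 x.2 with h | h
        · have h2 := congrArg Subtype.val h
          change ((x : D) : G) = 1 at h2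
          rw [h2]; exact one_mem _
        · have h2 := congrArg Subtype.val h
          change ((x : D) : G) = _ at h2
          rw [h2, L.hz]; exact mem_zpowers _⟩ : zpowers L.t))
      intro x y hxy
      have h2 : ((x : D) : G) = ((y : D) : G) := congrArg (fun w : zpowers L.t => (w : G)) hxy
      exact Subtype.ext (Subtype.ext h2)
    rwa [Nat.card_zpowers, L.orderOf_t] at h1
  have h1 : Nat.card D = Nat.card ψ.ker * Nat.card ψ.range := by
    rw [← Subgroup.card_mul_index ψ.ker, Subgroup.index_ker]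
  have h2 : v 2 D = v 2 ψ.ker + v 2 ψ.range := by
    simp only [v]
    rw [h1, Nat.factorization_mul Nat.card_pos.ne' Nat.card_pos.ne', Finsupp.add_apply]
  have h3 : v 2 ψ.ker ≤ 1 := by
    have h4 : 0 < Nat.card ψ.ker := Nat.card_pos
    have h5 : Nat.card ψ.ker = 1 ∨ Nat.card ψ.ker = 2 := by omega
    simp only [v]
    rcases h5 with h5 | h5
    · rw [h5]; simp
    · rw [h5, Nat.prime_two.factorization]; simp
  have h4 := v_mono hr 2
  omega

end gen

/-- the elements of odd prime order of `Perm (Fin 8)` -/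
theorem v_perm_eight {σ : Equiv.Perm (Fin 8)} (h : (orderOf σ).Prime) (h2 : orderOf σ ≠ 2) :
    v 2 ↥(centralizer ({σ} : Set (Equiv.Perm (Fin 8)))) ≤ 4 := by
  have hF : Fact (orderOf σ).Prime := ⟨h⟩
  obtain ⟨n, hn⟩ := Equiv.Perm.cycleType_prime_order h
  have h3 := Equiv.Perm.nat_card_centralizer σ
  have h4 := Equiv.Perm.sum_cycleType_le σ
  rw [hn] at h3 h4
  rw [Multiset.sum_replicate, smul_eq_mul, Fintype.card_fin] at h4
  rw [Multiset.sum_replicate, smul_eq_mul, Multiset.prod_replicate, Fintype.card_fin] at h3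
  obtain ⟨p, hp⟩ : ∃ p, p = orderOf σ := ⟨_, rfl⟩
  rw [← hp] at h h2 h3 h4
  have h5 : 3 ≤ p := by
    have := h.two_le
    omega
  have h6 : n + 1 ≤ 2 := by
    by_contra hcon
    push Not at hcon
    have : 3 * 3 ≤ (n + 1) * p := Nat.mul_le_mul hcon h5
    omega
  have h7 : p ≤ 8 := by
    have : 1 * p ≤ (n + 1) * p := Nat.mul_le_mul_right _ (by omega)
    omega
  have h8 : (Multiset.replicate (n + 1) p).toFinset = {p} := by
    rw [Multiset.toFinset_replicate]
    simp
  rw [h8, Finset.prod_singleton, Multiset.count_replicate_self] at h3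
  simp only [v]
  rw [h3]
  clear h3 hn h8 hF
  by_contra hcon
  push Not at hcon
  have h9 : n = 0 ∨ n = 1 := by omega
  have h10 := (Nat.prime_two.pow_dvd_iff_le_factorization (by positivity)).2 hcon
  rcases h9 with rfl | rfl
  · interval_cases p
    all_goals first
      | (revert h10; decide)
      | (revert h; norm_num)
  · have h11 : p ≤ 4 := by omega
    interval_cases p
    all_goals first
      | (revert h10; decide)
      | (revert h; norm_num)

/-- the `2`-index of `C(g)` in `McL` -/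
theorem lt_mcl {K : Type*} [Group K] [Finite K] (hc : Nat.card K = 898128000) (L : TypeM.Two.MT 8 K) {g : K}
    (hg : (orderOf g).Prime) (hg2 : orderOf g ≠ 2) : v 2 (centralizer ({g} : Set K)) + 1 < v 2 K := by
  have hK : 7 ≤ v 2 K := by
    rw [← Nat.prime_two.pow_dvd_iff_le_factorization Nat.card_pos.ne', hc]
    norm_num
  by_cases h2 : 2 ∣ Nat.card (centralizer ({g} : Set K))
  · obtain ⟨z, hzC, hz2, hv⟩ := exists_inv_central h2
    obtain ⟨L', rfl⟩ := L.exists_rebase (s := z) (by rw [← pow_two, ← hz2, pow_orderOf_eq_one]) (by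
      rintro rfl
      rw [orderOf_one] at hz2
      omega)
    have hgt : g * L'.t = L'.t * g := (mem_centralizer_singleton_iff.1 hzC).symm
    have h3 := v_le_of_mt L' hgt
    have h4 : orderOf (L'.K.π ⟨g, L'.mem_iff.2 hgt⟩) = orderOf g := by
      have h5 : orderOf (L'.K.π ⟨g, L'.mem_iff.2 hgt⟩) ∣ orderOf g := by
        have := orderOf_map_dvd L'.K.π ⟨g, L'.mem_iff.2 hgt⟩
        rwa [Subgroup.orderOf_mk] at this
      rcases (Nat.dvd_prime hg).1 h5 with h6 | h6
      · exfalso
        rw [orderOf_eq_one_iff] at h6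
        rcases (L'.K.ker _).1 h6 with h7 | h7
        · have h8 : g = 1 := congrArg Subtype.val h7
          rw [h8, orderOf_one] at hg
          exact Nat.not_prime_one hg
        · have h8 : g = L'.t := (congrArg Subtype.val h7).trans L'.hz
          rw [h8, L'.orderOf_t] at hg2
          exact hg2 rfl
      · exact h6
    have h5 := v_perm_eight (σ := L'.K.π ⟨g, L'.mem_iff.2 hgt⟩) (by rwa [h4]) (by rwa [h4])
    omega
  · have h3 := v_eq_zero h2
    omega

theorem row_mcl (K : Type u) [Group K] [Finite K] [IsSimpleGroup K] (h : Spor.IsoMcL K) : Row K := by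
  have hc := NotCT.Orders.mcl h
  obtain ⟨-, -, -, ⟨L⟩⟩ := TypeM.FactsMcL.facts h
  have h4 : 4 ∣ Nat.card K := by rw [hc]; norm_num
  have ho : out K = 2 := by
    obtain ⟨e⟩ := h
    exact out_of e S2073.result
  refine row_of_sc' (center_bot' h4) (H524.RegSpor.sc_mcl h) ho.le h4 fun g hg hg2 => ?_
  have h1 := lt_mcl hc L hg hg2
  rw [ho, Nat.prime_two.factorization, Finsupp.single_eq_same]
  exact h1

theorem row_j1 (K : Type u) [Group K] [Finite K] [IsSimpleGroup K] (h : Spor.IsoJ1 K) : Row K := by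
  have hc := NotCT.Orders.j1 h
  have h4 : 4 ∣ Nat.card K := by rw [hc]; norm_num
  have hZ := center_bot' (K := K) h4
  obtain ⟨e⟩ := h
  have hfin : Finite Spor.J1 := Finite.of_equiv K e.toEquiv
  have c2 : ∀ t : K, orderOf t = 2 → Nat.card (centralizer ({t} : Set K)) = 120 := by
    intro t ht
    rw [← card_centralizer_equiv e]
    exact SporRec.J1.EqTopC.card_cent2 H413.JOneLocal.isLocal _ (by rw [MulEquiv.orderOf_eq, ht])
  have c3 : ∀ t : K, orderOf t = 3 → Nat.card (centralizer ({t} : Set K)) = 30 := by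
    intro t ht
    rw [← card_centralizer_equiv e]
    exact H413.JOneLocal.isLocal.cent3 _ (by rw [MulEquiv.orderOf_eq, ht])
  have c5 : ∀ t : K, orderOf t = 5 → Nat.card (centralizer ({t} : Set K)) = 30 := by
    intro t ht
    rw [← card_centralizer_equiv e]
    exact H413.JOneLocal.isLocal.cent5 _ (by rw [MulEquiv.orderOf_eq, ht])
  have hna : ¬ ∀ a b : K, a * b = b * a := by
    intro hab
    have h1 : center K = ⊤ := by
      rw [eq_top_iff]
      intro a _
      rw [mem_center_iff]
      exact fun b => hab b a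
    rw [hZ] at h1
    have h2 : Nat.card K = 1 := by rw [← Subgroup.card_top, ← h1, Subgroup.card_bot]
    omega
  have hsc : SC K := SC.of_card (r := 7) (by norm_num) (by rw [hc]; norm_num) fun x hx => card_seven_j1 hna hc c2 c3 c5 hx
  have ho : out K = 1 := out_of e S2065.result
  have hK : 3 ≤ v 2 K := by
    rw [← Nat.prime_two.pow_dvd_iff_le_factorization Nat.card_pos.ne', hc]
    norm_num
  refine row_of_sc' hZ hsc (by omega) h4 fun g hg hg2 => ?_
  rw [ho, Nat.factorization_one, Finsupp.zero_apply, add_zero]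
  have h30 : (30 : ℕ).factorization 2 ≤ 1 := by
    by_contra hcon
    push Not at hcon
    have := (Nat.prime_two.pow_dvd_iff_le_factorization (by norm_num : (30 : ℕ) ≠ 0)).2 hcon
    norm_num at this
  by_cases h2 : 2 ∣ Nat.card (centralizer ({g} : Set K))
  · obtain ⟨z, hzC, hz2, -⟩ := exists_inv_central h2
    have hgz : g ∈ centralizer ({z} : Set K) :=
      mem_centralizer_singleton_iff.2 (mem_centralizer_singleton_iff.1 hzC).symm
    have hd : orderOf g ∣ 120 := by
      rw [← c2 z hz2]
      exact (Subgroup.orderOf_mk g hgz) ▸ orderOf_dvd_natCard (⟨g, hgz⟩ : centralizer ({z} : Set K))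
    have h5 : orderOf g = 3 ∨ orderOf g = 5 := by
      rw [show (120 : ℕ) = 2 ^ 3 * (3 * 5) by norm_num, hg.dvd_mul, hg.dvd_mul] at hd
      rcases hd with hd | hd | hd
      · exact absurd ((Nat.prime_dvd_prime_iff_eq hg Nat.prime_two).1 (hg.dvd_of_dvd_pow hd)) hg2
      · exact Or.inl ((Nat.prime_dvd_prime_iff_eq hg (by norm_num)).1 hd)
      · exact Or.inr ((Nat.prime_dvd_prime_iff_eq hg (by norm_num)).1 hd)
    have h6 : Nat.card (centralizer ({g} : Set K)) = 30 := by
      rcases h5 with h5 | h5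
      · exact c3 g h5
      · exact c5 g h5
    have h7 : v 2 (centralizer ({g} : Set K)) = (30 : ℕ).factorization 2 := by
      simp only [v]
      rw [h6]
    omega
  · have h3 := v_eq_zero h2
    omega

end Cfsg.Agent.H184.PD
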