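import Mathlib
import Cfsg.Agent.H184.PD.Base
import Cfsg.Agent.H184.PD.RowsA
import Cfsg.Agent.H680.ONThirtyOne
import Cfsg.Agent.KFacts.ON.OneClass
import Cfsg.Agent.KFacts.ON.Qs
import Cfsg.Agent.S2078

/-!
# S4246: the row `ON` (helper184)

The squares of the elements of a Sylow `2`-subgroup `S` contain `f`, `a f`, and `C(f) ∩ C(a)` is a `2`-group.
-/

set_option autoImplicit false
set_option linter.unusedSectionVars false

namespace Cfsg.Agent.H184.PD

open Subgroup Cfsg Cfsg.Agent.H160.PD Cfsg.Agent.H524.SporTool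

universe u

section

variable {G : Type*} [Group G] [Finite G]

/-- if only `2`-elements centralize all the squares of a Sylow `2`-subgroup -/
theorem lt_of_sq (T : Sylow 2 G) (h : ∀ y : G, (∀ t ∈ T, y * (t * t) = (t * t) * y) → ∃ k : ℕ, y ^ 2 ^ k = 1)
    {g : G} (hg : (orderOf g).Prime) (hg2 : orderOf g ≠ 2) :
    v 2 (centralizer ({g} : Set G)) + 1 < v 2 G := by
  by_contra hcon
  push Not at hcon
  have : Fact (Nat.Prime 2) := ⟨Nat.prime_two⟩
  obtain ⟨P⟩ : Nonempty (Sylow 2 (centralizer ({g} : Set G))) := inferInstance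
  set A : Subgroup G := (P : Subgroup (centralizer ({g} : Set G))).map (centralizer ({g} : Set G)).subtype with hA
  have hAC : A ≤ centralizer ({g} : Set G) := map_subtype_le _
  have hA2 : IsPGroup 2 A := P.2.map _
  have hAc : Nat.card A = 2 ^ v 2 (centralizer ({g} : Set G)) := by
    rw [hA, ← P.card_eq_multiplicity]
    exact (Nat.card_congr ((P : Subgroup (centralizer ({g} : Set G))).equivMapOfInjective _
      (subtype_injective _)).toEquiv).symm
  obtain ⟨T', hAT⟩ := hA2.exists_le_sylow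
  have hTc : Nat.card (T' : Subgroup G) = 2 ^ v 2 G := T'.card_eq_multiplicity
  have hle : v 2 (centralizer ({g} : Set G)) ≤ v 2 G :=
    (Nat.factorization_le_iff_dvd Nat.card_pos.ne' Nat.card_pos.ne').2 (card_subgroup_dvd_card _) 2
  have hri : A.relIndex T' = 1 ∨ A.relIndex T' = 2 := by
    have h1 : Nat.card A * A.relIndex T' = Nat.card (T' : Subgroup G) := by
      have := card_mul_index (A.subgroupOf (T' : Subgroup G))
      rw [← this, relIndex]
      congr 1
      exact (Nat.card_congr (Subgroup.subgroupOfEquivOfLe hAT).toEquiv).symm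
    rw [hAc, hTc] at h1
    obtain ⟨d, hd⟩ : ∃ d, v 2 G = v 2 (centralizer ({g} : Set G)) + d := ⟨_, (Nat.add_sub_of_le hle).symm⟩
    rw [hd, pow_add] at h1
    have h2 := Nat.eq_of_mul_eq_mul_left (by positivity) h1
    have h3 : d = 0 ∨ d = 1 := by omega
    rcases h3 with rfl | rfl
    · left; simpa using h2
    · right; simpa using h2
  have hsq : ∀ t ∈ (T' : Subgroup G), t * t ∈ A := by
    intro t ht
    rcases hri with h1 | h1
    · exact A.mul_mem (relIndex_eq_one.1 h1 ht) (relIndex_eq_one.1 h1 ht)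
    · have h2 := Subgroup.mul_self_mem_of_index_two (H := A.subgroupOf (T' : Subgroup G)) h1 ⟨t, ht⟩
      exact h2
  obtain ⟨k, hk⟩ := MulAction.exists_smul_eq G T' T
  obtain ⟨m, hm⟩ := h (k * g * k⁻¹) (by
    intro t ht
    have ht' : k⁻¹ * t * k ∈ (T' : Subgroup G) := by
      have ht2 : t ∈ ((k • T' : Sylow 2 G) : Subgroup G) := by rw [hk]; exact ht
      rw [Sylow.coe_subgroup_smul] at ht2
      have := Subgroup.mem_pointwise_smul_iff_inv_smul_mem.1 ht2
      rw [← map_inv, MulAut.smul_def, MulAut.conj_apply, inv_inv] at this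
      exact this
    have h1 := mem_centralizer_singleton_iff.1 (hAC (hsq _ ht'))
    have h2 : t * t = k * (k⁻¹ * t * k * (k⁻¹ * t * k)) * k⁻¹ := by group
    rw [h2]
    calc k * g * k⁻¹ * (k * (k⁻¹ * t * k * (k⁻¹ * t * k)) * k⁻¹)
        = k * (g * (k⁻¹ * t * k * (k⁻¹ * t * k))) * k⁻¹ := by group
      _ = k * ((k⁻¹ * t * k * (k⁻¹ * t * k)) * g) * k⁻¹ := by rw [h1]
      _ = _ := by group)
  have h3 : g ^ 2 ^ m = 1 := by
    rw [conj_pow] at hm
    have : g ^ 2 ^ m = k⁻¹ * (k * g ^ 2 ^ m * k⁻¹) * k := by group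
    rw [this, hm]
    group
  have h9 : orderOf g ∣ 2 ^ m := orderOf_dvd_of_pow_eq_one h3
  exact hg2 ((Nat.prime_dvd_prime_iff_eq hg Nat.prime_two).1 (hg.dvd_of_dvd_pow h9))

end

section ON

open Cfsg.Spor (ON)
open Cfsg.Agent.SporadicB.ON45Word (on)
open Cfsg.Agent.KFacts.ON.Struct (mem_K0)
open Cfsg.Agent.KFacts.ON.Cent (hON)
open Cfsg.Agent.ONType

theorem lt_on [Finite ON] {g : ON} (hg : (orderOf g).Prime) (hg2 : orderOf g ≠ 2) :
    v 2 (centralizer ({g} : Set ON)) + 1 < v 2 ON := by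
  obtain ⟨P, hP⟩ := Cfsg.Agent.KFacts.ON.OneClass.exists_sylow
  refine lt_of_sq P (fun y hy => ?_) hg hg2
  have hmem : ∀ t : ON, t ∈ P ↔ t ∈ TupS.S hON.1 := by
    intro t
    rw [← hP]
    rfl
  have hgg : on .g * on .g = on .a * on .f := by
    have h1 := TupT0.gg_eq hON.1
    exact h1
  have hvf : y * on .f = on .f * y := by
    have h1 := hy KFacts.ON.Words.v ((hmem _).2 (TupS.T0_le_S hON.1 KFacts.ON.Qs.vT))
    rwa [KFacts.ON.Words.vv] at h1
  have haf : y * (on .a * on .f) = on .a * on .f * y := by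
    have h1 := hy (on .g) ((hmem _).2 (TupS.T0_le_S hON.1 TupT0.g_mem))
    rwa [hgg] at h1
  have ha : y * on .a = on .a * y := by
    have h1 : y * on .a * on .f = on .a * y * on .f := by
      calc y * on .a * on .f = y * (on .a * on .f) := by group
        _ = on .a * (on .f * y) := by rw [haf]; group
        _ = on .a * (y * on .f) := by rw [hvf]
        _ = _ := by group
    exact mul_right_cancel h1
  have hyT : y ∈ TupT0.T0 := TupK.mem_T0 hON.1 (mem_K0.2 hvf) ha
  have h2 : IsPGroup 2 (TupS.S hON.1) := IsPGroup.of_card (n := 9) KFacts.ON.Qs.card_S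
  obtain ⟨k, hk⟩ := h2 ⟨y, TupS.T0_le_S hON.1 hyT⟩
  exact ⟨k, congrArg Subtype.val hk⟩

theorem sc_on [Finite ON] : SC ON :=
  SC.of_card (r := 31) (by norm_num) (by rw [KFacts.ON.OneClass.card_ON]; norm_num)
    fun _ hx => H680.ONThirtyOne.card_cent hx

theorem out_on : out ON = 2 := out_of (MulEquiv.refl ON) S2078.result

theorem row_on (K : Type u) [Group K] [Finite K] [IsSimpleGroup K] (h : Spor.IsoON K) : Row K := by
  obtain ⟨e⟩ := h
  have hf : Finite ON := Finite.of_equiv K e.toEquiv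
  have hs : IsSimpleGroup ON := hON.1
  have h4 : 4 ∣ Nat.card ON := by rw [KFacts.ON.OneClass.card_ON]; norm_num
  have hrow : Row ON := by
    refine row_of_sc' (center_bot' h4) sc_on (by rw [out_on]) h4 fun g hg hg2 => ?_
    rw [out_on, Nat.prime_two.factorization, Finsupp.single_eq_same]
    exact lt_on hg hg2
  exact hrow.congr e

end ON

end Cfsg.Agent.H184.PD
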